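import Mathlib.AlgebraicGeometry.Morphisms.Affine
import Mathlib.AlgebraicGeometry.Noetherian
import Mathlib.RingTheory.Ideal.MinimalPrime.Noetherian
import Mathlib.RingTheory.KrullDimension.Basic

/-!
# Open subschemes of one-dimensional Noetherian affine schemes are affine
-/

set_option autoImplicit false
set_option backward.isDefEq.respectTransparency.types false

universe u

open CategoryTheory AlgebraicGeometry TopologicalSpace

namespace Groth.Agent.LciCurve29

/-- An open subset of the spectrum of a Noetherian ring of dimension at most one is affine. -/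
theorem isAffineOpen_spec_of_dim_le_one {R : CommRingCat.{u}} [IsNoetherianRing R] (hdim : ringKrullDim R ≤ 1)
    (O : (Spec R).Opens) : IsAffineOpen O := by
  classical
  let T : Set (PrimeSpectrum R) := (O : Set (Spec R))ᶜ
  have hT : IsClosed T := O.isOpen.isClosed_compl
  let I : Ideal R := PrimeSpectrum.vanishingIdeal T
  have hIT : PrimeSpectrum.zeroLocus (I : Set R) = T := by
    rw [PrimeSpectrum.zeroLocus_vanishingIdeal_eq_closure, hT.closure_eq]
  let P : Finset (Ideal R) := (minimalPrimes.finite_of_isNoetherianRing R).toFinset.filter fun p => ¬ I ≤ p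
  obtain ⟨f, hfI, hfP⟩ : ∃ f ∈ I, ∀ p ∈ P, f ∉ p := by
    by_contra h
    push_neg at h
    have hsub : (I : Set R) ⊆ ⋃ p ∈ (P : Set (Ideal R)), (p : Set R) := fun f hf => by
      obtain ⟨p, hp, hfp⟩ := h f hf
      exact Set.mem_biUnion hp hfp
    have hprime : ∀ p ∈ P, p.IsPrime := fun p hp =>
      Ideal.minimalPrimes_isPrime ((Set.Finite.mem_toFinset _).1 (Finset.mem_filter.1 hp).1)
    obtain ⟨p, hp, hIp⟩ := (Ideal.subset_union_prime (f := fun p : Ideal R => p) ⊥ ⊥ fun p hp _ _ => hprime p hp).1 hsub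
    exact (Finset.mem_filter.1 hp).2 hIp
  -- the extra zeros of `f` are finitely many closed points
  let E : Set (PrimeSpectrum R) := {y | f ∈ y.asIdeal ∧ y ∉ T}
  have hmax : ∀ y ∈ E, ∀ q : PrimeSpectrum R, q.asIdeal ≤ y.asIdeal → f ∈ q.asIdeal → q = y ∧ y.asIdeal.IsMaximal := by
    intro y hy q hqy hfq
    have hqT : q ∉ T := fun h => hy.2 (by
      rw [← hIT] at h ⊢
      exact fun a ha => hqy (h ha))
    have hnmin : q.asIdeal ∉ minimalPrimes R := fun h => hfP q.asIdeal (Finset.mem_filter.2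
      ⟨(Set.Finite.mem_toFinset _).2 h, fun hI => hqT (by rw [← hIT]; exact hI)⟩) hfq
    have hqmax : q.asIdeal.IsMaximal := by
      by_contra hq
      obtain ⟨m, hm, hqm⟩ := q.asIdeal.exists_le_maximal q.2.ne_top
      obtain ⟨p, hp, hpq⟩ := Ideal.exists_minimalPrimes_le (I := ⊥) (bot_le (a := q.asIdeal))
      have h1 : (⟨p, Ideal.minimalPrimes_isPrime hp⟩ : PrimeSpectrum R) < q :=
        lt_of_le_of_ne hpq fun h => hnmin (by rw [← h]; exact hp)
      have h2 : q < (⟨m, hm.isPrime⟩ : PrimeSpectrum R) :=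
        lt_of_le_of_ne hqm fun h => hq (by rw [h]; exact hm)
      let s : LTSeries (PrimeSpectrum R) :=
        { length := 2
          toFun := ![⟨p, Ideal.minimalPrimes_isPrime hp⟩, q, ⟨m, hm.isPrime⟩]
          step := fun i => by fin_cases i <;> assumption }
      have h3 := ((Order.LTSeries.length_le_krullDim s).trans hdim : ((2 : ℕ) : WithBot ℕ∞) ≤ 1)
      exact absurd (WithBot.coe_le_coe.1 h3 : ((2 : ℕ) : ℕ∞) ≤ 1) (by decide)
    have := hqmax.eq_of_le y.2.ne_top hqy
    exact ⟨PrimeSpectrum.ext this, this ▸ hqmax⟩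
  have hEfin : E.Finite := by
    refine Set.Finite.of_finite_image (f := PrimeSpectrum.asIdeal)
      ((Ideal.finite_minimalPrimes_of_isNoetherianRing R (Ideal.span {f})).subset ?_)
      fun a _ b _ h => PrimeSpectrum.ext h
    rintro _ ⟨y, hy, rfl⟩
    refine ⟨⟨y.2, by rw [Ideal.span_singleton_le_iff_mem]; exact hy.1⟩, fun q hq hqy => ?_⟩
    exact ((congrArg PrimeSpectrum.asIdeal
      (hmax y hy ⟨q, hq.1⟩ hqy (hq.2 (Ideal.mem_span_singleton_self f))).1).ge : y.asIdeal ≤ q)
  have hEclosed : IsClosed E := by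
    rw [← Set.biUnion_of_singleton E]
    exact hEfin.isClosed_biUnion fun y hy =>
      (PrimeSpectrum.isClosed_singleton_iff_isMaximal y).2 (hmax y hy y le_rfl hy.1).2
  haveI : IsAffineHom O.ι := by
    refine isAffineHom_of_forall_exists_isAffineOpen _ fun y => ?_
    obtain ⟨_, ⟨g, rfl⟩, hyg, hgE⟩ : ∃ N ∈ Set.range fun g : R => (PrimeSpectrum.basicOpen g : Set (PrimeSpectrum R)),
        y ∈ N ∧ N ⊆ if y ∈ O then (O : Set (Spec R)) else Eᶜ := by
      refine PrimeSpectrum.isTopologicalBasis_basic_opens.exists_subset_of_mem_open ?_ ?_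
      · by_cases h : y ∈ O
        · rwa [if_pos h]
        · rw [if_neg h]; exact fun hy => hy.2 h
      · by_cases h : y ∈ O
        · rw [if_pos h]; exact O.isOpen
        · rw [if_neg h]; exact hEclosed.isOpen_compl
    refine ⟨PrimeSpectrum.basicOpen g, hyg, IsAffineOpen.Spec_basicOpen g, ?_⟩
    rw [← Scheme.Hom.isAffineOpen_iff_of_isOpenImmersion O.ι, Scheme.Hom.image_preimage_eq_opensRange_inf,
      Scheme.Opens.opensRange_ι]
    by_cases h : y ∈ O
    · rw [if_pos h] at hgE
      have hle : O ⊓ (PrimeSpectrum.basicOpen g : (Spec R).Opens) = PrimeSpectrum.basicOpen g :=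
        le_antisymm inf_le_right (le_inf (fun x hx => hgE hx) le_rfl)
      exact (congrArg IsAffineOpen hle).mpr (IsAffineOpen.Spec_basicOpen g)
    · rw [if_neg h] at hgE
      have heq : O ⊓ (PrimeSpectrum.basicOpen g : (Spec R).Opens) = PrimeSpectrum.basicOpen (f * g) := by
        ext x
        simp only [Opens.coe_inf, Set.mem_inter_iff, SetLike.mem_coe, PrimeSpectrum.basicOpen_mul]
        refine ⟨fun hx => ⟨fun hfx => hgE hx.2 ⟨hfx, fun hxT => hxT hx.1⟩, hx.2⟩, fun hx => ⟨?_, hx.2⟩⟩
        by_contra hxO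
        exact hx.1 ((hIT.ge hxO : x ∈ PrimeSpectrum.zeroLocus (I : Set R)) hfI)
      rw [heq]
      exact IsAffineOpen.Spec_basicOpen (f * g)
  exact isAffine_of_isAffineHom O.ι

/-- An open inside an affine open of a one-dimensional locally Noetherian scheme is affine. -/
theorem isAffineOpen_of_le {X : Scheme.{u}} [IsLocallyNoetherian X] (hdim : topologicalKrullDim X ≤ 1)
    {U O : X.Opens} (hU : IsAffineOpen U) (h : O ≤ U) : IsAffineOpen O := by
  haveI : IsNoetherianRing Γ(X, U) := IsLocallyNoetherian.component_noetherian ⟨U, hU⟩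
  have hd : ringKrullDim Γ(X, U) ≤ 1 := by
    rw [← PrimeSpectrum.topologicalKrullDim_eq_ringKrullDim]
    exact (hU.fromSpec.isOpenEmbedding.isInducing.topologicalKrullDim_le).trans hdim
  have h1 := (Scheme.Hom.isAffineOpen_iff_of_isOpenImmersion hU.fromSpec).2
    (isAffineOpen_spec_of_dim_le_one hd (hU.fromSpec ⁻¹ᵁ O))
  rwa [Scheme.Hom.image_preimage_eq_opensRange_inf, hU.opensRange_fromSpec, inf_eq_right.2 h] at h1

end Groth.Agent.LciCurve29
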