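import Groth.Agent.Synt15.Descent
import Groth.Agent.Synt15.Lift
import Mathlib.RingTheory.Flat.EquationalCriterion
import Mathlib.RingTheory.Artinian.Ring

/-!
# Lifting flat algebras with complete intersection closed fibre
-/

set_option autoImplicit false
set_option linter.style.haveILetI false

universe u

open MvPolynomial

namespace Groth.Agent.LciCurve29

theorem le_of_le_sup_mul {P : Type u} [CommRing P] {M K L : Ideal P} {N : ℕ} (hN : M ^ N = ⊥)
    (h : K ≤ L ⊔ M * K) : K ≤ L := by
  have : ∀ r, K ≤ L ⊔ M ^ r * K := by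
    intro r
    induction r with
    | zero => simp
    | succ r ih =>
      refine ih.trans (sup_le le_sup_left ?_)
      rw [pow_succ, mul_assoc]
      refine (Ideal.mul_mono_right h).trans ?_
      rw [Ideal.mul_sup]
      exact sup_le_sup_right Ideal.mul_le_right _
  simpa [hN] using this N

/-- A relative global complete intersection over the residue field gives one over the local ring. -/
theorem isRelGCI_of_residue {B k : Type u} [CommRing B] [Field k] [IsLocalRing B] [IsArtinianRing B] (r : B →+* k)
    {n c : ℕ} (F : Fin c → MvPolynomial (Fin n) B) (h : Synt.IsRelGCI k n c fun i => MvPolynomial.map r (F i)) :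
    Synt.IsRelGCI B n c F := fun p hne => by
  obtain ⟨e⟩ := Synt15.exists_fibEquiv F p.asIdeal
  haveI := e.symm.toRingEquiv.toEquiv.nontrivial
  haveI hb : (⊥ : Ideal k).IsPrime := Ideal.isPrime_bot
  obtain rfl : p = ⟨(⊥ : Ideal k).comap r, inferInstance⟩ := PrimeSpectrum.ext
    ((IsLocalRing.eq_maximalIdeal (IsArtinianRing.isMaximal_of_isPrime p.asIdeal)).trans
      (IsLocalRing.eq_maximalIdeal (IsArtinianRing.isMaximal_of_isPrime ((⊥ : Ideal k).comap r))).symm)
  have hd := Synt15.fibre_map_dim r F (⊥ : Ideal k)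
  obtain ⟨e'⟩ := Synt15.exists_fibEquiv (fun i => MvPolynomial.map r (F i)) (⊥ : Ideal k)
  haveI := Synt15.nontrivial_of_dim hd.symm
  obtain ⟨h1, h2⟩ := Synt15.IsRelGCI.fibre h (⊥ : Ideal k) inferInstance
  exact ⟨h1, (ringKrullDim_eq_of_ringEquiv e.toRingEquiv).trans (hd.symm.trans h2)⟩

/-- Lifting of a flat algebra whose closed fibre is a global complete intersection. -/
theorem exists_flat_lift {A B k R : Type u} [CommRing A] [CommRing B] [Field k] [CommRing R]
    [IsLocalRing A] [IsArtinianRing A] [IsLocalRing B] [IsArtinianRing B]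
    (μ : B →+* A) (hμ : Function.Surjective μ) (res : A →+* k) (hres : Function.Surjective res)
    (hker : RingHom.ker res = IsLocalRing.maximalIdeal A) [Algebra A R] [Module.Flat A R]
    {n c : ℕ} (Fb : Fin c → MvPolynomial (Fin n) k) (hFb : Synt.IsRelGCI k n c Fb)
    (π : R →+* Synt.RelGCIRing k n c Fb) (hπ : Function.Surjective π)
    (hkπ : RingHom.ker π = (IsLocalRing.maximalIdeal A).map (algebraMap A R))
    (hcomp : π.comp (algebraMap A R) = (algebraMap k (Synt.RelGCIRing k n c Fb)).comp res) :
    ∃ (S : Type u) (_ : CommRing S) (_ : Algebra B S) (ρ : S →+* R), Module.Flat B S ∧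
      Algebra.FinitePresentation B S ∧ Function.Surjective ρ ∧
      RingHom.ker ρ = (RingHom.ker μ).map (algebraMap B S) ∧
      ρ.comp (algebraMap B S) = (algebraMap A R).comp μ := by
  classical
  let 𝔪 := IsLocalRing.maximalIdeal A
  obtain ⟨N, hN⟩ : ∃ N, 𝔪 ^ N = ⊥ := by
    obtain ⟨N, hN⟩ := (IsArtinianRing.isNilpotent_jacobson_bot (R := A))
    exact ⟨N, by rwa [IsLocalRing.jacobson_eq_maximalIdeal ⊥ bot_ne_top] at hN⟩
  let P := MvPolynomial (Fin n) A
  let q : MvPolynomial (Fin n) k →+* Synt.RelGCIRing k n c Fb := Ideal.Quotient.mk _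
  choose xs hxs using fun i => hπ (q (X i))
  let φ : P →ₐ[A] R := MvPolynomial.aeval xs
  have hπφ : ∀ z, π (φ z) = q (MvPolynomial.map res z) := by
    have : π.comp φ.toRingHom = q.comp (MvPolynomial.map res) := by
      refine MvPolynomial.ringHom_ext (fun a => ?_) fun i => ?_
      · show π (φ (C a)) = q (MvPolynomial.map res (C a))
        rw [MvPolynomial.map_C, show φ (C a) = algebraMap A R a from φ.commutes a]
        exact RingHom.congr_fun hcomp a
      · show π (φ (X i)) = q (MvPolynomial.map res (X i))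
        rw [MvPolynomial.map_X, show φ (X i) = xs i from MvPolynomial.aeval_X xs i]
        exact hxs i
    exact RingHom.congr_fun this
  have hmapres : Function.Surjective (MvPolynomial.map (σ := Fin n) res) := MvPolynomial.map_surjective res hres
  -- surjectivity
  have hφ : Function.Surjective φ := by
    have key : ∀ r, ∀ y : R, ∃ z : P, y - φ z ∈ (𝔪 ^ r).map (algebraMap A R) := by
      intro r
      induction r with
      | zero => exact fun y => ⟨0, by rw [pow_zero, Ideal.one_eq_top, Ideal.map_top]; trivial⟩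
      | succ r ih =>
        intro y
        obtain ⟨z, hz⟩ := ih y
        have : ∀ w ∈ (𝔪 ^ r).map (algebraMap A R), ∃ z : P, w - φ z ∈ (𝔪 ^ (r + 1)).map (algebraMap A R) := by
          intro w hw
          rw [Ideal.map, ← Ideal.submodule_span_eq] at hw
          induction hw using Submodule.span_induction with
          | mem w hw =>
            obtain ⟨a, ha, rfl⟩ := hw
            exact ⟨C a, by rw [show φ (C a) = algebraMap A R a from φ.commutes a, sub_self]; exact zero_mem _⟩
          | zero => exact ⟨0, by simp⟩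
          | add v w _ _ hv hw =>
            obtain ⟨z₁, h₁⟩ := hv
            obtain ⟨z₂, h₂⟩ := hw
            exact ⟨z₁ + z₂, by rw [map_add, show v + w - (φ z₁ + φ z₂) = (v - φ z₁) + (w - φ z₂) by ring]
                               exact add_mem h₁ h₂⟩
          | smul s w hw' hw =>
            obtain ⟨z₂, h₂⟩ := hw
            obtain ⟨z₁, hz₁⟩ := hmapres (Classical.choose (Ideal.Quotient.mk_surjective (π s)))
            have hs : s - φ z₁ ∈ 𝔪.map (algebraMap A R) := by
              rw [← hkπ, RingHom.mem_ker, map_sub, hπφ, hz₁,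
                Classical.choose_spec (Ideal.Quotient.mk_surjective (π s)), sub_self]
            refine ⟨z₁ * z₂, ?_⟩
            rw [map_mul, smul_eq_mul, show s * w - φ z₁ * φ z₂ = (s - φ z₁) * w + φ z₁ * (w - φ z₂) by ring]
            refine add_mem ?_ (Ideal.mul_mem_left _ _ h₂)
            rw [pow_succ', Ideal.map_mul]
            exact Ideal.mul_mem_mul hs hw'
        obtain ⟨z', hz'⟩ := this _ hz
        exact ⟨z + z', by rw [map_add, show y - (φ z + φ z') = y - φ z - φ z' by ring]; exact hz'⟩
    intro y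
    obtain ⟨z, hz⟩ := key N y
    rw [hN, Ideal.map_bot, Ideal.mem_bot, sub_eq_zero] at hz
    exact ⟨z, hz.symm⟩
  let K : Ideal P := RingHom.ker φ.toRingHom
  let M : Ideal P := 𝔪.map C
  have hkmap : RingHom.ker (MvPolynomial.map (σ := Fin n) res) = M := by rw [MvPolynomial.ker_map, hker]
  -- flatness: K ∩ mP = mK
  have hKM : ∀ z ∈ K, z ∈ M → z ∈ M * K := by
    intro z hzK hzM
    rw [show M = Ideal.span (C '' (𝔪 : Set A)) from rfl, Ideal.span, Submodule.mem_span_set'] at hzM
    obtain ⟨m, coef, gen, hsum⟩ := hzM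
    choose a ha hag using fun j => (gen j).2
    have hrel : ∑ j, a j • φ (coef j) = 0 := by
      rw [show (0 : R) = φ z from (RingHom.mem_ker.1 hzK).symm, ← hsum, map_sum]
      exact Finset.sum_congr rfl fun j _ => by
        rw [smul_eq_mul, map_mul, ← hag j, Algebra.smul_def, mul_comm, show φ (C (a j)) = algebraMap A R (a j) from φ.commutes (a j)]
    obtain ⟨l, b, y, hy, hb⟩ := Module.Flat.isTrivialRelation_of_sum_smul_eq_zero (R := A) (M := R) (f := a) (x := fun j => φ (coef j)) hrel
    choose w hw using fun i => hφ (y i)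
    have hz : z = ∑ j, C (a j) * (coef j - ∑ i, C (b j i) * w i) := by
      have h0 : ∑ j, C (a j) * ∑ i, C (b j i) * w i = (0 : P) := by
        simp only [Finset.mul_sum, ← mul_assoc, ← C_mul]
        rw [Finset.sum_comm]
        refine Finset.sum_eq_zero fun i _ => ?_
        rw [← Finset.sum_mul, ← map_sum, hb i, map_zero, zero_mul]
      simp only [mul_sub, Finset.sum_sub_distrib, h0, sub_zero, ← hsum]
      exact Finset.sum_congr rfl fun j _ => by rw [smul_eq_mul, mul_comm, hag]
    rw [hz]
    refine Ideal.sum_mem _ fun j _ => Ideal.mul_mem_mul (Ideal.mem_map_of_mem C (ha j)) ?_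
    rw [RingHom.mem_ker]
    show φ _ = 0
    rw [map_sub, map_sum, show φ (coef j) = ∑ i, b j i • y i from hy j, sub_eq_zero]
    exact Finset.sum_congr rfl fun i _ => by rw [map_mul, hw, Algebra.smul_def, show φ (C (b j i)) = algebraMap A R (b j i) from φ.commutes (b j i)]
  -- lifts of the relations
  have hf : ∀ i, ∃ f : P, f ∈ K ∧ MvPolynomial.map res f = Fb i := fun i => by
    obtain ⟨g, hg⟩ := hmapres (Fb i)
    have h1 : φ g ∈ M.map φ.toRingHom := by
      rw [Ideal.map_map, show φ.toRingHom.comp C = algebraMap A R from φ.comp_algebraMap, ← hkπ, RingHom.mem_ker,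
        hπφ, hg, Ideal.Quotient.eq_zero_iff_mem]
      exact Ideal.subset_span ⟨i, rfl⟩
    obtain ⟨h, hh, hhg⟩ := (Ideal.mem_map_iff_of_surjective _ hφ).1 h1
    refine ⟨g - h, by rw [RingHom.mem_ker, map_sub]; exact sub_eq_zero.2 hhg.symm, ?_⟩
    rw [map_sub, hg, show MvPolynomial.map res h = 0 from (hkmap.ge hh), sub_zero]
  choose f hfK hff using hf
  have hK : K = Ideal.span (Set.range f) := by
    refine le_antisymm (le_of_le_sup_mul (M := M) (N := N) ?_ fun z hz => ?_)
      (Ideal.span_le.2 (Set.range_subset_iff.2 hfK))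
    · rw [← Ideal.map_pow, hN, Ideal.map_bot]
    · have h1 : MvPolynomial.map res z ∈ Ideal.span (Set.range Fb) := by
        rw [← Ideal.Quotient.eq_zero_iff_mem]
        show q _ = 0
        rw [← hπφ, show φ z = 0 from hz, map_zero]
      rw [show Fb = MvPolynomial.map res ∘ f from funext fun i => (hff i).symm, Set.range_comp, ← Ideal.map_span,
        Ideal.mem_map_iff_of_surjective _ hmapres] at h1
      obtain ⟨z₁, hz₁, hzz⟩ := h1
      rw [← sub_add_cancel z z₁, add_comm]
      refine add_mem (Ideal.mem_sup_left hz₁) (Ideal.mem_sup_right (hKM _ (sub_mem hz ?_) ?_))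
      · exact Ideal.span_le.2 (Set.range_subset_iff.2 hfK) hz₁
      · rw [← hkmap, RingHom.mem_ker, map_sub, hzz, sub_self]
  -- lift to B
  choose F hF using fun i => MvPolynomial.map_surjective (σ := Fin n) μ hμ (f i)
  have hgci : Synt.IsRelGCI B n c F := isRelGCI_of_residue (res.comp μ) F (by
    have : (fun i => MvPolynomial.map (res.comp μ) (F i)) = Fb := funext fun i => by
      rw [← MvPolynomial.map_map, hF, hff]
    rwa [this])
  let Φ : MvPolynomial (Fin n) B →+* R := φ.toRingHom.comp (MvPolynomial.map μ)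
  have hΦ : ∀ a ∈ Ideal.span (Set.range F), Φ a = 0 := fun a ha =>
    (Ideal.span_le.2 (Set.range_subset_iff.2 fun i => RingHom.mem_ker.2 (show φ _ = 0 from by rw [hF]; exact hfK i)) :
      Ideal.span (Set.range F) ≤ RingHom.ker Φ) ha
  let ρ : Synt.RelGCIRing B n c F →+* R := Ideal.Quotient.lift _ Φ hΦ
  refine ⟨Synt.RelGCIRing B n c F, inferInstance, inferInstance, ρ, (Synt15.isSyntomic_relGCI hgci).1,
    (Synt15.isSyntomic_relGCI hgci).2.1, ?_, ?_, RingHom.ext fun b => ?_⟩
  · intro y
    obtain ⟨z, rfl⟩ := hφ y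
    obtain ⟨Z, rfl⟩ := MvPolynomial.map_surjective (σ := Fin n) μ hμ z
    exact ⟨Ideal.Quotient.mk _ Z, rfl⟩
  · refine le_antisymm (fun y hy => ?_) (Ideal.map_le_iff_le_comap.2 fun b hb => ?_)
    · obtain ⟨Z, rfl⟩ := Ideal.Quotient.mk_surjective y
      have h1 : MvPolynomial.map μ Z ∈ K := hy
      rw [hK, show f = MvPolynomial.map μ ∘ F from funext fun i => (hF i).symm, Set.range_comp, ← Ideal.map_span,
        Ideal.mem_map_iff_of_surjective _ (MvPolynomial.map_surjective μ hμ)] at h1
      obtain ⟨W, hW, hWZ⟩ := h1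
      have h2 : Z - W ∈ (RingHom.ker μ).map C := by
        rw [← MvPolynomial.ker_map, RingHom.mem_ker, map_sub, hWZ, sub_self]
      have h3 := Ideal.mem_map_of_mem (Ideal.Quotient.mk (Ideal.span (Set.range F))) h2
      rw [Ideal.map_map, map_sub, Ideal.Quotient.eq_zero_iff_mem.2 hW, sub_zero] at h3
      exact h3
    · rw [Ideal.mem_comap, RingHom.mem_ker]
      show φ (MvPolynomial.map μ (C b)) = 0
      rw [MvPolynomial.map_C, RingHom.mem_ker.1 hb, map_zero, map_zero]
  · show φ (MvPolynomial.map μ (C b)) = _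
    rw [MvPolynomial.map_C]
    exact φ.commutes (μ b)

end Groth.Agent.LciCurve29
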