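import Groth.Agent.LciCurve29.LocalLift
import Groth.Agent.S6002
import Groth.Agent.H8Lim.Approximation
import Groth.Agent.MorProj.SmoothLocus

/-!
# Gluing lifts of deformations
-/

set_option autoImplicit false
set_option backward.isDefEq.respectTransparency.types false
set_option backward.isDefEq.respectTransparency false
set_option linter.style.haveILetI false

universe u

open CategoryTheory CategoryTheory.Limits AlgebraicGeometry TopologicalSpace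

namespace Groth.Agent.LciCurve29

variable {Z T₀ T : Scheme.{u}}

theorem smooth_of_lift {W : Scheme.{u}} (κ : T₀ ⟶ T) [Surjective κ] (f : Z ⟶ T₀) [Smooth f] (g : W ⟶ T) [Flat g]
    [LocallyOfFinitePresentation g] (j : Z ⟶ W) (h : IsPullback j f g κ) : Smooth g := by
  haveI : Surjective j := MorphismProperty.of_isPullback (P := @Surjective) h.flip inferInstance
  refine Scheme.Hom.smoothLocus_eq_top_iff.1 (top_le_iff.1 fun y _ => ?_)
  obtain ⟨z, rfl⟩ := j.surjective y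
  have h1 : z ∈ f.smoothLocus := by rw [Scheme.Hom.smoothLocus_eq_top]; trivial
  rwa [MorProj.smoothLocus_baseChange g κ f j h (Or.inl inferInstance)] at h1

/-- Uniqueness of lifts in the smooth affine case. -/
theorem exists_iso_of_smooth [IsLocallyNoetherian T] (κ : T₀ ⟶ T) [IsClosedImmersion κ] [Surjective κ]
    (f : Z ⟶ T₀) [Smooth f] [IsAffine Z] {W₁ W₂ : Scheme.{u}} (g₁ : W₁ ⟶ T) [Flat g₁]
    [LocallyOfFinitePresentation g₁] (j₁ : Z ⟶ W₁) (h₁ : IsPullback j₁ f g₁ κ) (g₂ : W₂ ⟶ T) [Flat g₂]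
    [LocallyOfFinitePresentation g₂] (j₂ : Z ⟶ W₂) (h₂ : IsPullback j₂ f g₂ κ) :
    ∃ φ : W₁ ≅ W₂, φ.hom ≫ g₂ = g₁ ∧ j₁ ≫ φ.hom = j₂ := by
  haveI := smooth_of_lift κ f g₁ j₁ h₁
  haveI := smooth_of_lift κ f g₂ j₂ h₂
  obtain ⟨X, g, _, e, he, hu⟩ := S6002.result κ κ.surjective f
  obtain ⟨φ₁, hφ₁, hφ₁'⟩ := hu W₁ g₁ h₁.isoPullback h₁.isoPullback_hom_snd
  obtain ⟨φ₂, hφ₂, hφ₂'⟩ := hu W₂ g₂ h₂.isoPullback h₂.isoPullback_hom_snd
  rw [h₁.isoPullback_hom_fst] at hφ₁'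
  rw [h₂.isoPullback_hom_fst] at hφ₂'
  refine ⟨φ₁.symm ≪≫ φ₂, by simp [hφ₂, ← hφ₁], ?_⟩
  rw [← hφ₁', Iso.trans_hom, Iso.symm_hom, Category.assoc, φ₁.hom_inv_id_assoc, hφ₂']

/-- A lift of a family restricts to its open subsets. -/
theorem exists_restrict {W : Scheme.{u}} (κ : T₀ ⟶ T) [IsClosedImmersion κ] [Surjective κ] (f : Z ⟶ T₀)
    (g : W ⟶ T) (j : Z ⟶ W) (h : IsPullback j f g κ) (O : Z.Opens) :
    ∃ (O' : W.Opens) (j' : O.toScheme ⟶ O'.toScheme), j ⁻¹ᵁ O' = O ∧ j' ≫ O'.ι = O.ι ≫ j ∧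
      IsPullback j' (O.ι ≫ f) (O'.ι ≫ g) κ := by
  haveI : Surjective j := MorphismProperty.of_isPullback (P := @Surjective) h.flip inferInstance
  haveI : IsClosedImmersion j := MorphismProperty.of_isPullback (P := @IsClosedImmersion) h.flip inferInstance
  let O' : W.Opens := ⟨(j '' (O : Set Z)ᶜ)ᶜ, (j.isClosedMap _ O.isOpen.isClosed_compl).isOpen_compl⟩
  have hO : j ⁻¹ᵁ O' = O := by
    ext z
    show j z ∈ (j '' (O : Set Z)ᶜ)ᶜ ↔ z ∈ (O : Set Z)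
    simp [j.isClosedEmbedding.injective.mem_set_image]
  refine ⟨O', Z.homOfLE hO.ge ≫ j ∣_ O', hO, ?_, ?_⟩
  · rw [Category.assoc, morphismRestrict_ι, Scheme.homOfLE_ι_assoc]
  · have h1 := (isPullback_morphismRestrict j O').flip.paste_horiz h.flip
    refine h1.flip.of_iso (Z.isoOfEq hO) (Iso.refl _) (Iso.refl _) (Iso.refl _) ?_ ?_ (by simp) (by simp)
    · rw [Iso.refl_hom, Category.comp_id, ← Category.assoc]
      have : (Z.isoOfEq hO).hom ≫ Z.homOfLE hO.ge = 𝟙 _ := by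
        rw [← cancel_mono (j ⁻¹ᵁ O').ι, Category.assoc, Scheme.homOfLE_ι, Scheme.isoOfEq_hom_ι, Category.id_comp]
      rw [this, Category.id_comp]
    · rw [Iso.refl_hom, Category.comp_id, Scheme.isoOfEq_hom_ι_assoc]

/-- Lifts over two opens with unique lifting on the overlap glue. -/
theorem lifts_sup [IsLocallyNoetherian T] (κ : T₀ ⟶ T) [IsClosedImmersion κ] [Surjective κ] (f : Z ⟶ T₀)
    (U V : Z.Opens) (hU : Lifts κ (U.ι ≫ f)) (hV : Lifts κ (V.ι ≫ f)) (ha : IsAffineOpen (U ⊓ V))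
    (hs : Smooth ((U ⊓ V).ι ≫ f)) : Lifts κ ((U ⊔ V).ι ≫ f) := by
  obtain ⟨W₁, g₁, j₁, _, _, h₁⟩ := hU
  obtain ⟨W₂, g₂, j₂, _, _, h₂⟩ := hV
  let O := U ⊓ V
  haveI : IsAffine O.toScheme := ha
  obtain ⟨O₁, k₁, hO₁, hk₁, hp₁⟩ := exists_restrict κ (U.ι ≫ f) g₁ j₁ h₁ (U.ι ⁻¹ᵁ V)
  obtain ⟨O₂, k₂, hO₂, hk₂, hp₂⟩ := exists_restrict κ (V.ι ≫ f) g₂ j₂ h₂ (V.ι ⁻¹ᵁ U)
  let u₁ : O.toScheme ⟶ (U.ι ⁻¹ᵁ V).toScheme := IsOpenImmersion.lift (U.ι ⁻¹ᵁ V).ι (Z.homOfLE inf_le_left) (by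
    rintro _ ⟨z, rfl⟩
    rw [Scheme.Opens.range_ι]
    show U.ι (Z.homOfLE inf_le_left z) ∈ V
    rw [← Scheme.Hom.comp_apply, Scheme.homOfLE_ι]
    exact z.2.2)
  let u₂ : O.toScheme ⟶ (V.ι ⁻¹ᵁ U).toScheme := IsOpenImmersion.lift (V.ι ⁻¹ᵁ U).ι (Z.homOfLE inf_le_right) (by
    rintro _ ⟨z, rfl⟩
    rw [Scheme.Opens.range_ι]
    show V.ι (Z.homOfLE inf_le_right z) ∈ U
    rw [← Scheme.Hom.comp_apply, Scheme.homOfLE_ι]
    exact z.2.1)
  have hu₁ : u₁ ≫ (U.ι ⁻¹ᵁ V).ι = Z.homOfLE inf_le_left := IsOpenImmersion.lift_fac _ _ _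
  have hu₂ : u₂ ≫ (V.ι ⁻¹ᵁ U).ι = Z.homOfLE inf_le_right := IsOpenImmersion.lift_fac _ _ _
  haveI : IsOpenImmersion u₁ := by
    haveI : IsOpenImmersion (u₁ ≫ (U.ι ⁻¹ᵁ V).ι) := by rw [hu₁]; infer_instance
    exact IsOpenImmersion.of_comp u₁ (U.ι ⁻¹ᵁ V).ι
  haveI : IsOpenImmersion u₂ := by
    haveI : IsOpenImmersion (u₂ ≫ (V.ι ⁻¹ᵁ U).ι) := by rw [hu₂]; infer_instance
    exact IsOpenImmersion.of_comp u₂ (V.ι ⁻¹ᵁ U).ι
  haveI : IsIso u₁ := by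
    haveI : Surjective u₁ := ⟨fun y => ⟨⟨U.ι ((U.ι ⁻¹ᵁ V).ι y), ((U.ι ⁻¹ᵁ V).ι y).2, y.2⟩, by
      refine ((U.ι ⁻¹ᵁ V).ι ≫ U.ι).isOpenEmbedding.injective ?_
      rw [← Scheme.Hom.comp_apply, reassoc_of% hu₁, Scheme.homOfLE_ι]
      rfl⟩⟩
    exact isIso_iff_isOpenImmersion_and_surjective _ |>.2 ⟨inferInstance, inferInstance⟩
  haveI : IsIso u₂ := by
    haveI : Surjective u₂ := ⟨fun y => ⟨⟨V.ι ((V.ι ⁻¹ᵁ U).ι y), y.2, ((V.ι ⁻¹ᵁ U).ι y).2⟩, by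
      refine ((V.ι ⁻¹ᵁ U).ι ≫ V.ι).isOpenEmbedding.injective ?_
      rw [← Scheme.Hom.comp_apply, reassoc_of% hu₂, Scheme.homOfLE_ι]
      rfl⟩⟩
    exact isIso_iff_isOpenImmersion_and_surjective _ |>.2 ⟨inferInstance, inferInstance⟩
  have hq₁ : IsPullback (u₁ ≫ k₁) (O.ι ≫ f) (O₁.ι ≫ g₁) κ :=
    hp₁.of_iso (asIso u₁).symm (Iso.refl _) (Iso.refl _) (Iso.refl _) (by simp)
      (by rw [Iso.refl_hom, Category.comp_id, Iso.symm_hom, Iso.eq_inv_comp, asIso_hom, reassoc_of% hu₁,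
        Scheme.homOfLE_ι_assoc]) (by simp) (by simp)
  have hq₂ : IsPullback (u₂ ≫ k₂) (O.ι ≫ f) (O₂.ι ≫ g₂) κ :=
    hp₂.of_iso (asIso u₂).symm (Iso.refl _) (Iso.refl _) (Iso.refl _) (by simp)
      (by rw [Iso.refl_hom, Category.comp_id, Iso.symm_hom, Iso.eq_inv_comp, asIso_hom, reassoc_of% hu₂,
        Scheme.homOfLE_ι_assoc]) (by simp) (by simp)
  obtain ⟨φ, hφ, hφ'⟩ := exists_iso_of_smooth κ (O.ι ≫ f) (O₁.ι ≫ g₁) _ hq₁ (O₂.ι ≫ g₂) _ hq₂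
  obtain ⟨W, a, b, g, _, _, hab, hag, hbg, hcov, hov⟩ :=
    H8Lim.exists_glue_two O₁.ι (φ.hom ≫ O₂.ι) g₁ g₂ (by rw [Category.assoc]; exact hφ.symm)
  have hkk : Z.homOfLE inf_le_left ≫ j₁ ≫ a = Z.homOfLE (inf_le_right : U ⊓ V ≤ V) ≫ j₂ ≫ b := by
    rw [← hu₁, ← hu₂, Category.assoc, Category.assoc, ← reassoc_of% hk₁, ← reassoc_of% hk₂, hab, Category.assoc]
    simp only [← Category.assoc]
    rw [hφ']
  obtain ⟨j, hjU, hjV⟩ := H8Lim.exists_glue_hom U V (j₁ ≫ a) (j₂ ≫ b) hkk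
  let 𝒰 : W.OpenCover := Scheme.openCoverOfIsOpenCover W (fun s : Bool => bif s then a.opensRange else b.opensRange) (by
    rw [IsOpenCover, eq_top_iff]
    intro z _
    rcases hcov z with h | h
    · exact Opens.mem_iSup.2 ⟨true, h⟩
    · exact Opens.mem_iSup.2 ⟨false, h⟩)
  haveI : Flat g := by
    refine (IsZariskiLocalAtSource.iff_of_openCover (P := @Flat) 𝒰).2 fun s => ?_
    cases s
    · show Flat (b.opensRange.ι ≫ g)
      rw [← b.isoOpensRange_inv_comp, Category.assoc, hbg]; infer_instance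
    · show Flat (a.opensRange.ι ≫ g)
      rw [← a.isoOpensRange_inv_comp, Category.assoc, hag]; infer_instance
  haveI : LocallyOfFinitePresentation g := by
    refine (IsZariskiLocalAtSource.iff_of_openCover (P := @LocallyOfFinitePresentation) 𝒰).2 fun s => ?_
    cases s
    · show LocallyOfFinitePresentation (b.opensRange.ι ≫ g)
      rw [← b.isoOpensRange_inv_comp, Category.assoc, hbg]; infer_instance
    · show LocallyOfFinitePresentation (a.opensRange.ι ≫ g)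
      rw [← a.isoOpensRange_inv_comp, Category.assoc, hag]; infer_instance
  refine ⟨W, g, j, inferInstance, inferInstance, ?_⟩
  -- the preimages of the two pieces
  have key₁ : ∀ z : (U ⊔ V).toScheme, j z ∈ Set.range a → (U ⊔ V).ι z ∈ U := by
    rintro ⟨z, hz | hz⟩ hr
    · exact hz
    · have e : j ⟨z, Or.inr hz⟩ = b (j₂ ⟨z, hz⟩) := by
        rw [← Scheme.Hom.comp_apply, ← hjV, Scheme.Hom.comp_apply, Scheme.homOfLE_apply']
      obtain ⟨x, hx⟩ := hr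
      obtain ⟨o, -, ho⟩ := hov x (j₂ ⟨z, hz⟩) (hx.trans e)
      have h3 : (⟨z, hz⟩ : V.toScheme) ∈ j₂ ⁻¹ᵁ O₂ := by
        show j₂ ⟨z, hz⟩ ∈ O₂
        rw [← ho, Scheme.Hom.comp_apply]
        exact (φ.hom o).2
      rw [hO₂] at h3
      exact h3
  have key₂ : ∀ z : (U ⊔ V).toScheme, j z ∈ Set.range b → (U ⊔ V).ι z ∈ V := by
    rintro ⟨z, hz | hz⟩ hr
    · have e : j ⟨z, Or.inl hz⟩ = a (j₁ ⟨z, hz⟩) := by
        rw [← Scheme.Hom.comp_apply, ← hjU, Scheme.Hom.comp_apply, Scheme.homOfLE_apply']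
      obtain ⟨y, hy⟩ := hr
      obtain ⟨o, ho, -⟩ := hov (j₁ ⟨z, hz⟩) y (e.symm.trans hy.symm)
      have h3 : (⟨z, hz⟩ : U.toScheme) ∈ j₁ ⁻¹ᵁ O₁ := by
        show j₁ ⟨z, hz⟩ ∈ O₁
        rw [← ho]
        exact o.2
      rw [hO₁] at h3
      exact h3
    · exact hz
  have piece : ∀ {W' : Scheme.{u}} (c : W' ⟶ W) [IsOpenImmersion c] (g' : W' ⟶ T) (hg' : c ≫ g = g') (Q : Z.Opens)
      (hQ : Q ≤ U ⊔ V) (j' : Q.toScheme ⟶ W') (hj' : Z.homOfLE hQ ≫ j = j' ≫ c)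
      (hkey : ∀ z, j z ∈ Set.range c → (U ⊔ V).ι z ∈ Q) (hp : IsPullback j' (Q.ι ≫ f) g' κ),
      IsPullback (pullback.snd j c.opensRange.ι) (pullback.fst j c.opensRange.ι ≫ (U ⊔ V).ι ≫ f)
        (c.opensRange.ι ≫ g) κ := by
    intro W' c _ g' hg' Q hQ j' hj' hkey hp
    have hpb : IsPullback j' (Z.homOfLE hQ) c j := by
      refine IsOpenImmersion.isPullback _ _ _ _ hj' ?_
      ext z
      constructor
      · intro hz
        refine ⟨⟨(U ⊔ V).ι z, hkey z hz⟩, (U ⊔ V).ι.isOpenEmbedding.injective ?_⟩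
        rw [← Scheme.Hom.comp_apply, Scheme.homOfLE_ι]
        rfl
      · rintro ⟨q, rfl⟩
        exact ⟨j' q, by rw [← Scheme.Hom.comp_apply, ← hj', Scheme.Hom.comp_apply]⟩
    have hc : IsPullback j' (Z.homOfLE hQ) c j := hpb
    have h2 : IsPullback (pullback.snd j c.opensRange.ι ≫ c.isoOpensRange.inv) (pullback.fst j c.opensRange.ι) c j :=
      (IsPullback.of_hasPullback j c.opensRange.ι).flip.of_iso (Iso.refl _) c.isoOpensRange.symm (Iso.refl _)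
        (Iso.refl _) (by simp) (by simp) (by simp [c.isoOpensRange_inv_comp]) (by simp)
    refine hp.of_iso (hc.isoIsPullback _ _ h2) c.isoOpensRange (Iso.refl _) (Iso.refl _) ?_ ?_ ?_ (by simp)
    · rw [← cancel_mono c.isoOpensRange.inv, Category.assoc, Category.assoc, Iso.hom_inv_id, Category.comp_id,
        IsPullback.isoIsPullback_hom_fst]
    · rw [Iso.refl_hom, Category.comp_id, ← Category.assoc, IsPullback.isoIsPullback_hom_snd, Scheme.homOfLE_ι_assoc]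
    · rw [Iso.refl_hom, Category.comp_id, ← Category.assoc, ← hg', ← c.isoOpensRange_inv_comp,
        Iso.hom_inv_id_assoc]
  refine Scheme.isPullback_of_openCover _ _ _ _ 𝒰 fun s => ?_
  cases s
  · exact piece b g₂ hbg V le_sup_right j₂ hjV key₂ h₂
  · exact piece a g₁ hag U le_sup_left j₁ hjU key₁ h₁

end Groth.Agent.LciCurve29
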