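import Groth.Agent.LciCurve29.AlgLift
import Groth.Agent.Synt15.SyntAt
import Mathlib.AlgebraicGeometry.Morphisms.ClosedImmersion
import Mathlib.AlgebraicGeometry.Morphisms.FinitePresentation

/-!
# Local lifts of deformations of local complete intersections
-/

set_option autoImplicit false
set_option backward.isDefEq.respectTransparency.types false
set_option backward.isDefEq.respectTransparency false
set_option linter.style.haveILetI false

universe u

open CategoryTheory CategoryTheory.Limits AlgebraicGeometry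

namespace Groth.Agent.LciCurve29

/-- `f` extends to a flat, finitely presented family along `κ`. -/
def Lifts {Z T₀ T : Scheme.{u}} (κ : T₀ ⟶ T) (f : Z ⟶ T₀) : Prop :=
  ∃ (W : Scheme.{u}) (g : W ⟶ T) (j : Z ⟶ W), Flat g ∧ LocallyOfFinitePresentation g ∧ IsPullback j f g κ

/-- The affine local lift. -/
theorem lifts_of_isAffine {A B k : Type u} [CommRing A] [CommRing B] [Field k]
    [IsLocalRing A] [IsArtinianRing A] [IsLocalRing B] [IsArtinianRing B]
    (μ : B →+* A) (hμ : Function.Surjective μ) (res : A →+* k) (hres : Function.Surjective res)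
    (hker : RingHom.ker res = IsLocalRing.maximalIdeal A) {Z : Scheme.{u}} [IsAffine Z]
    (f : Z ⟶ Spec (CommRingCat.of A)) [Flat f] {n c : ℕ} (Fb : Fin c → MvPolynomial (Fin n) k)
    (hFb : Synt.IsRelGCI k n c Fb) (i : Spec (CommRingCat.of (Synt.RelGCIRing k n c Fb)) ⟶ Z)
    (h : IsPullback i (Spec.map (CommRingCat.ofHom (algebraMap k (Synt.RelGCIRing k n c Fb)))) f
      (Spec.map (CommRingCat.ofHom res))) :
    Lifts (Spec.map (CommRingCat.ofHom μ)) f := by
  let R := Γ(Z, ⊤)
  let α : CommRingCat.of A ⟶ R := Spec.preimage (Z.isoSpec.inv ≫ f)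
  have hα : Spec.map α = Z.isoSpec.inv ≫ f := Spec.map_preimage _
  letI : Algebra A R := α.hom.toAlgebra
  haveI : Flat (Spec.map α) := by rw [hα]; infer_instance
  haveI : Module.Flat A R := RingHom.flat_algebraMap_iff.1 ((HasRingHomProperty.Spec_iff (P := @Flat) (φ := α)).1 inferInstance)
  let π : R ⟶ CommRingCat.of (Synt.RelGCIRing k n c Fb) := Spec.preimage (i ≫ Z.isoSpec.hom)
  have hπ : Spec.map π = i ≫ Z.isoSpec.hom := Spec.map_preimage _
  let alg := CommRingCat.ofHom (algebraMap k (Synt.RelGCIRing k n c Fb))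
  have hcomp : α ≫ π = CommRingCat.ofHom res ≫ alg := by
    apply Spec.map_injective
    rw [Spec.map_comp, Spec.map_comp, hα, hπ, Category.assoc, Iso.hom_inv_id_assoc]
    exact h.w
  haveI : IsClosedImmersion (Spec.map (CommRingCat.ofHom res)) := IsClosedImmersion.spec_of_surjective _ hres
  haveI : IsClosedImmersion i := MorphismProperty.of_isPullback (P := @IsClosedImmersion) h.flip inferInstance
  haveI : IsClosedImmersion (Spec.map π) := by rw [hπ]; infer_instance
  have hπs : Function.Surjective π.hom := by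
    have hs := (IsClosedImmersion.isAffine_surjective_of_isAffine (Spec.map π)).2
    have hn : (Scheme.ΓSpecIso R).inv ≫ (Spec.map π).appTop ≫ (Scheme.ΓSpecIso _).hom = π := by
      rw [Scheme.ΓSpecIso_naturality, Iso.inv_hom_id_assoc]
    rw [← hn]
    exact ((ConcreteCategory.bijective_of_isIso (Scheme.ΓSpecIso _).hom).2.comp hs).comp
      (ConcreteCategory.bijective_of_isIso (Scheme.ΓSpecIso R).inv).2
  have hkπ : RingHom.ker π.hom = (IsLocalRing.maximalIdeal A).map (algebraMap A R) := by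
    refine le_antisymm (fun z hz => ?_) (Ideal.map_le_iff_le_comap.2 fun a ha => ?_)
    · let J := (IsLocalRing.maximalIdeal A).map (algebraMap A R)
      let q : R ⟶ CommRingCat.of (R ⧸ J) := CommRingCat.ofHom (Ideal.Quotient.mk J)
      have hJ : ∀ a ∈ RingHom.ker res, (Ideal.Quotient.mk J).comp (algebraMap A R) a = 0 := fun a ha =>
        Ideal.Quotient.eq_zero_iff_mem.2 (Ideal.mem_map_of_mem _ (hker ▸ ha))
      let γ : CommRingCat.of k ⟶ CommRingCat.of (R ⧸ J) := CommRingCat.ofHom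
        ((RingHom.liftOfSurjective res hres) ⟨(Ideal.Quotient.mk J).comp (algebraMap A R), hJ⟩)
      have hγ : CommRingCat.ofHom res ≫ γ = α ≫ q := CommRingCat.hom_ext
        (RingHom.liftOfSurjective_comp res hres ⟨(Ideal.Quotient.mk J).comp (algebraMap A R), hJ⟩)
      let l := h.lift (Spec.map q ≫ Z.isoSpec.inv) (Spec.map γ) (by
        rw [Category.assoc, ← hα, ← Spec.map_comp, ← Spec.map_comp, hγ])
      have hl : Spec.map (π ≫ Spec.preimage l) = Spec.map q := by
        rw [Spec.map_comp, Spec.map_preimage, hπ, h.lift_fst_assoc, Category.assoc, Iso.inv_hom_id, Category.comp_id]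
      have h2 := ConcreteCategory.congr_hom (Spec.map_injective hl) z
      rw [CommRingCat.comp_apply, show π z = 0 from hz, map_zero] at h2
      exact Ideal.Quotient.eq_zero_iff_mem.1 h2.symm
    · rw [Ideal.mem_comap, RingHom.mem_ker]
      refine (ConcreteCategory.congr_hom hcomp a).trans ?_
      simp [alg, RingHom.mem_ker.1 (hker.symm ▸ ha : a ∈ RingHom.ker res)]
  obtain ⟨S, _, _, ρ, hS, hfp, hρ, hkρ, hρc⟩ := exists_flat_lift μ hμ res hres hker Fb hFb π.hom hπs hkπ
    (congrArg CommRingCat.Hom.hom hcomp)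
  let algS := CommRingCat.ofHom (algebraMap B S)
  have hsq : IsPushout (CommRingCat.ofHom μ) algS α (CommRingCat.ofHom ρ) := by
    refine ⟨⟨CommRingCat.hom_ext hρc.symm⟩, ⟨PushoutCocone.IsColimit.mk _
      (fun s => CommRingCat.ofHom ((RingHom.liftOfSurjective ρ hρ) ⟨s.inr.hom, ?_⟩)) (fun s => ?_) (fun s => ?_)
      (fun s m _ hm => ?_)⟩⟩
    · rw [hkρ, Ideal.map_le_iff_le_comap]
      intro b hb
      rw [Ideal.mem_comap, RingHom.mem_ker]
      refine ((ConcreteCategory.congr_hom s.condition b).symm).trans ?_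
      simp [RingHom.mem_ker.1 hb]
    · ext a
      obtain ⟨b, rfl⟩ := hμ a
      refine Eq.trans ?_ (ConcreteCategory.congr_hom s.condition b).symm
      show (RingHom.liftOfSurjective ρ hρ _) (α (μ b)) = _
      rw [show α (μ b) = ρ (algebraMap B S b) from (RingHom.congr_fun hρc b).symm,
        RingHom.liftOfSurjective_comp_apply]
      rfl
    · exact CommRingCat.hom_ext (RingHom.liftOfSurjective_comp ρ hρ _)
    · ext y
      obtain ⟨z, rfl⟩ := hρ y
      refine (ConcreteCategory.congr_hom hm z).trans ?_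
      exact (RingHom.liftOfSurjective_comp_apply (f := ρ) (hf := hρ) (g := ⟨s.inr.hom, _⟩) z).symm
  refine ⟨Spec (CommRingCat.of S), Spec.map algS, Z.isoSpec.hom ≫ Spec.map (CommRingCat.ofHom ρ),
    (HasRingHomProperty.Spec_iff (P := @Flat)).2 (RingHom.flat_algebraMap_iff.2 hS),
    (HasRingHomProperty.Spec_iff (P := @LocallyOfFinitePresentation)).2 (RingHom.finitePresentation_algebraMap.2 hfp), ?_⟩
  exact (isPullback_SpecMap_of_isPushout _ _ _ _ hsq).flip.of_iso Z.isoSpec.symm (Iso.refl _) (Iso.refl _) (Iso.refl _)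
    (by simp) (by rw [Iso.refl_hom, Category.comp_id, Iso.symm_hom, hα]) (by simp) (by simp)

/-- Standard syntomic neighbourhoods inside a given open. -/
theorem exists_relGCI_nhd_le {X S : Scheme.{u}} {x : X ⟶ S} [IsAffine S] {p : X} (h : Synt.IsSyntomicAt x p)
    {O : X.Opens} (hp : p ∈ O) :
    ∃ (U : X.Opens) (_ : IsAffineOpen U) (n c : ℕ) (F : Fin c → MvPolynomial (Fin n) Γ(S, ⊤)),
      p ∈ U ∧ U ≤ O ∧ Synt.IsRelGCI Γ(S, ⊤) n c F ∧
      ∃ e : Spec (CommRingCat.of (Synt.RelGCIRing Γ(S, ⊤) n c F)) ≅ U.toScheme,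
        e.hom ≫ U.ι ≫ x ≫ S.isoSpec.hom = Spec.map (CommRingCat.ofHom (algebraMap Γ(S, ⊤) (Synt.RelGCIRing Γ(S, ⊤) n c F))) := by
  obtain ⟨U₁, hU₁, e₁, hpU₁, h₁⟩ := Synt15.exists_syntomic_nhd h (isAffineOpen_top S) (show x p ∈ ⊤ from trivial)
  obtain ⟨g, hgO, hpg⟩ := hU₁.exists_basicOpen_le (⟨p, hp⟩ : O) hpU₁
  have h₂ : letI := (x.appLE ⊤ (X.basicOpen g) le_top).hom.toAlgebra
      Synt.IsSyntomic Γ(S, ⊤) Γ(X, X.basicOpen g) := by
    refine (Synt15.isCIMorphism_resLE_iff x (isAffineOpen_top S) (hU₁.basicOpen g) le_top).1 ?_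
    have hc := CAlgH.CIMorphism.isCIMorphism_comp _ _ (Synt15.isCIMorphism_of_isOpenImmersion (X.homOfLE (X.basicOpen_le g)))
      ((Synt15.isCIMorphism_resLE_iff x (isAffineOpen_top S) hU₁ le_top).2 h₁)
    rwa [Scheme.Hom.map_resLE] at hc
  obtain ⟨g', hpg', n, c, F, hF, ε, hε⟩ :=
    Synt15.exists_relGCI_basicOpen x (hU₁.basicOpen g) le_top h₂ hpg
  have hU : IsAffineOpen (X.basicOpen g') := (hU₁.basicOpen g).basicOpen g'
  refine ⟨X.basicOpen g', hU, n, c, F, hpg', (X.basicOpen_le g').trans hgO, hF,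
    Scheme.Spec.mapIso ε.toCommRingCatIso.op ≪≫ hU.isoSpec.symm, ?_⟩
  have hfs := (isAffineOpen_top S).SpecMap_appLE_fromSpec x hU (le_top : X.basicOpen g' ≤ x ⁻¹ᵁ ⊤)
  rw [Iso.trans_hom, Iso.symm_hom, Category.assoc, hU.isoSpec_inv_ι_assoc, ← Category.assoc hU.fromSpec,
    ← hfs, Category.assoc]
  rw [show (isAffineOpen_top S).fromSpec ≫ S.isoSpec.hom = 𝟙 _ from by
    rw [IsAffineOpen.fromSpec_top, Iso.inv_hom_id]]
  rw [Category.comp_id]
  show Spec.map _ ≫ Spec.map _ = _
  rw [← Spec.map_comp]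
  exact congrArg Spec.map (CommRingCat.hom_ext hε)

end Groth.Agent.LciCurve29
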